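import Cfsg.Agent.H31.FR.Range
import Cfsg.Agent.H885.Pw.JF

/-!
# `F4(q)`, `q` odd: the abelian group `q^7` with its natural `Ω₇(q)`-structure (helper31)

`lift_abs` : lifting a homomorphism of an elementary abelian `p`-group through a central kernel of order two;
`jj` : the 7-dimensional space in the 9-dimensional one; `ext_E` : `Ω₇(q)` acts on `u₀^⊥ / u₀`;
`exists_e` : the embedding `e : W → F4(q)`, equivariant for `Ω₇(q)`.
-/

set_option autoImplicit false
set_option linter.unusedSectionVars false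
set_option linter.unusedSimpArgs false

namespace Cfsg.Agent.H31.FR

open Cfsg Cfsg.Lie Module Matrix
open Cfsg.Agent.ChevalleyStructure Cfsg.Agent.ChevalleyStructure.Elts
open Cfsg.Agent.ChevalleyStructure.E6Min.Tables Cfsg.Agent.ChevalleyStructure.E6Min.Basic
open Cfsg.Agent.H952.F4 Cfsg.Agent.H952.F4.Jord
open Cfsg.Agent.LieClassical Cfsg.Agent.LieClassical.OrthForms Cfsg.Agent.LieClassical.OrthCore
open Cfsg.Agent.H557.InvF4 Cfsg.Agent.OddHalf.NI.ModelChev
open Cfsg.Agent.Tits.Roots Cfsg.Agent.Nodes.BNOf Cfsg.Agent.Nodes.RGDChev Cfsg.Agent.KFacts.RgdChevCoord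
open Cfsg.Agent.H885.Pw.JB

universe u

/-- **the abstract lift** -/
theorem lift_abs {C H W : Type*} [Group C] [Group H] [AddCommGroup W] (P : C →* H) {τ : C} (hτ : τ * τ = 1) (hτ1 : τ ≠ 1)
    (hc : ∀ x, x * τ = τ * x) (hk : ∀ x, P x = 1 → x = 1 ∨ x = τ) {p : ℕ} (hp : Odd p) (S : W → H)
    (hS : ∀ a b, S (a + b) = S a * S b) (hpW : ∀ a : W, p • a = 0) (hr : ∀ a, ∃ x, P x = S a) :
    ∃ e : Multiplicative W →* C, (∀ a, P (e (.ofAdd a)) = S a) ∧ (∀ a, e (.ofAdd a) ^ p = 1) ∧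
      ∀ a y, P y = S a → y ^ p = 1 → y = e (.ofAdd a) := by
  classical
  obtain ⟨k, hk'⟩ := hp
  have hS0 : S 0 = 1 := by
    have := hS 0 0
    rw [add_zero] at this
    exact left_eq_mul.1 this
  have hSn : ∀ (n : ℕ) (a : W), S (n • a) = S a ^ n := by
    intro n a
    induction n with
    | zero => rw [zero_smul, hS0, pow_zero]
    | succ n ih => rw [succ_nsmul, hS, ih, pow_succ]
  have hτp : τ ^ p = τ := by
    rw [hk', pow_succ, pow_mul, pow_two, hτ, one_pow, one_mul]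
  -- uniqueness
  have huniq : ∀ x y : C, P x = P y → x ^ p = 1 → y ^ p = 1 → x = y := by
    intro x y hxy hx hy
    rcases hk (y⁻¹ * x) (by rw [map_mul, map_inv, hxy, inv_mul_cancel]) with h | h
    · exact (inv_mul_eq_one.1 h).symm
    · exfalso
      have h1 : x = y * τ := by rw [← h]; group
      have h2 : Commute y τ := hc y
      rw [h1, h2.mul_pow, hy, one_mul, hτp] at hx
      exact hτ1 hx
  -- existence
  have hex : ∀ a, ∃ x, P x = S a ∧ x ^ p = 1 := by
    intro a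
    obtain ⟨x, hx⟩ := hr a
    refine ⟨x ^ (p + 1), ?_, ?_⟩
    · rw [map_pow, hx, pow_succ, ← hSn, hpW, hS0, one_mul]
    · rw [← pow_mul, mul_comm, pow_mul, show p + 1 = 2 * (k + 1) by omega, pow_mul, pow_two]
      have h1 : P (x ^ p) = 1 := by rw [map_pow, hx, ← hSn, hpW, hS0]
      rcases hk _ h1 with h | h
      · rw [h, mul_one, one_pow]
      · rw [h, hτ, one_pow]
  choose f hf1 hf2 using hex
  have hmul : ∀ a b, f (a + b) = f a * f b := by
    intro a b
    apply huniq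
    · rw [hf1, map_mul, hf1, hf1, hS]
    · exact hf2 _
    · -- the lifts commute
      have h1 : P (f a * f b * (f a)⁻¹) = P (f b) := by
        rw [map_mul, map_mul, map_inv, hf1, hf1, ← hS, add_comm, hS, mul_inv_cancel_right]
      have h2 : (f a * f b * (f a)⁻¹) ^ p = 1 := by rw [conj_pow, hf2, mul_one, mul_inv_cancel]
      have h3 := huniq _ _ h1 h2 (hf2 b)
      have h4 : Commute (f a) (f b) := mul_inv_eq_iff_eq_mul.1 h3
      rw [h4.mul_pow, hf2, hf2, one_mul]
  refine ⟨MonoidHom.mk' (fun a => f a.toAdd) (fun a b => hmul _ _), fun a => hf1 a, fun a => hf2 a, fun a y h1 h2 => ?_⟩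
  exact huniq _ _ (h1.trans (hf1 a).symm) h2 (hf2 a)

/-- the 7-dimensional space -/
abbrev W7 (K : Type u) := Unit ⊕ (Fin 3 ⊕ Fin 3) → K

section

variable {K : Type u} [Field K]

/-- the singular vector -/
def u0 (K : Type u) [Field K] : VV K := Pi.single (.inr (.inr 0)) 1

/-- its partner -/
def v0 (K : Type u) [Field K] : VV K := Pi.single (.inr (.inl 0)) 1

/-- the 7-dimensional space inside the 9-dimensional space -/
def jj : W7 K →ₗ[K] VV K where
  toFun w := Sum.elim (fun _ => w (.inl ())) (Sum.elim ![0, w (.inr (.inl 0)), w (.inr (.inl 1)), w (.inr (.inl 2))]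
    ![0, w (.inr (.inr 0)), w (.inr (.inr 1)), w (.inr (.inr 2))])
  map_add' v w := by
    funext a
    rcases a with _ | a | a
    · rfl
    · fin_cases a <;> simp
    · fin_cases a <;> simp
  map_smul' c v := by
    funext a
    rcases a with _ | a | a
    · rfl
    · fin_cases a <;> simp
    · fin_cases a <;> simp

/-- the shift of the indices -/
def sh7 : Unit ⊕ (Fin 3 ⊕ Fin 3) → Unit ⊕ (Fin 4 ⊕ Fin 4) := Sum.map id (Sum.map Fin.succ Fin.succ)

theorem jj_sh (w : W7 K) (k : Unit ⊕ (Fin 3 ⊕ Fin 3)) : jj w (sh7 k) = w k := by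
  rcases k with _ | k | k
  · rfl
  · fin_cases k <;> rfl
  · fin_cases k <;> rfl

theorem jj_single (k : Unit ⊕ (Fin 3 ⊕ Fin 3)) (s : K) : jj (Pi.single k s) = Pi.single (sh7 k) s := by
  funext a
  rcases k with _ | k | k
  · rcases a with _ | a | a
    · rfl
    · fin_cases a <;> simp [jj, sh7]
    · fin_cases a <;> simp [jj, sh7]
  · rcases a with _ | a | a
    · simp [jj, sh7]
    · fin_cases k <;> fin_cases a <;> simp [jj, sh7, Pi.single_apply]
    · fin_cases k <;> fin_cases a <;> simp [jj, sh7, Pi.single_apply]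
  · rcases a with _ | a | a
    · simp [jj, sh7]
    · fin_cases k <;> fin_cases a <;> simp [jj, sh7, Pi.single_apply]
    · fin_cases k <;> fin_cases a <;> simp [jj, sh7, Pi.single_apply]

theorem Q_jj (w : W7 K) : (oddForm 4 K) (jj w) = (oddForm 3 K) w := by
  rw [coe_oddForm, coe_oddForm, quadFormOdd_apply, quadFormOdd_apply, Fin.sum_univ_four, Fin.sum_univ_three]
  simp [jj]

theorem polar_jj (v w : W7 K) : QuadraticMap.polar (oddForm 4 K) (jj v) (jj w) = QuadraticMap.polar (oddForm 3 K) v w := by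
  unfold QuadraticMap.polar
  rw [← map_add, Q_jj, Q_jj, Q_jj]

theorem Q_u0 : (oddForm 4 K) (u0 K) = 0 := by
  rw [coe_oddForm, quadFormOdd_apply, Fin.sum_univ_four]
  simp [u0]

theorem polar_u0 (y : VV K) : QuadraticMap.polar (oddForm 4 K) (u0 K) y = y (.inr (.inl 0)) := by
  rw [polar_oddForm]
  simp [u0, Pi.single_apply]

theorem polar_u0_jj (w : W7 K) : QuadraticMap.polar (oddForm 4 K) (u0 K) (jj w) = 0 := by
  rw [polar_u0]
  rfl

theorem polar_jj_u0 (w : W7 K) : QuadraticMap.polar (oddForm 4 K) (jj w) (u0 K) = 0 := by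
  rw [QuadraticMap.polar_comm, polar_u0_jj]

/-- the Siegel element of `w` -/
def sgl (w : W7 K) : VV K ≃ₗ[K] VV K := siegel (oddForm 4 K) (u0 K) (jj w) Q_u0 (polar_u0_jj w)

theorem sgl_add (v w : W7 K) : sgl (v + w) = sgl v * sgl w := by
  unfold sgl
  rw [siegel_mul Q_u0 (polar_u0_jj v) (polar_u0_jj w) (by rw [← map_add]; exact polar_u0_jj _)]
  congr 1
  exact map_add _ _ _

theorem sgl_mem (w : W7 K) : sgl w ∈ E (oddForm 4 K) := siegel_mem_E _ _

theorem sgl_inj : Function.Injective (sgl (K := K)) := by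
  intro v w h
  have key : ∀ (w : W7 K) (k : Unit ⊕ (Fin 3 ⊕ Fin 3)), sgl w (v0 K) (sh7 k) = w k := by
    intro w k
    rw [sgl, siegel_apply, polar_u0]
    have h1 : (v0 K) (.inr (.inl 0)) = 1 := by simp [v0]
    have h2 : (v0 K) (sh7 k) = 0 := by
      rcases k with _ | k | k
      · rfl
      · fin_cases k <;> simp [v0, sh7]
      · fin_cases k <;> simp [v0, sh7]
    have h3 : (u0 K) (sh7 k) = 0 := by
      rcases k with _ | k | k
      · rfl
      · fin_cases k <;> simp [u0, sh7]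
      · fin_cases k <;> simp [u0, sh7]
    simp only [Pi.add_apply, Pi.sub_apply, Pi.smul_apply, h1, h2, h3, jj_sh, one_smul, smul_zero, sub_zero, zero_add]
  funext k
  rw [← key v k, ← key w k, h]

/-- `Ω₇` acts on `u₀^⊥ / u₀` -/
theorem ext_E {h : W7 K ≃ₗ[K] W7 K} (hh : h ∈ E (oddForm 3 K)) :
    ∃ H ∈ E (oddForm 4 K), H (u0 K) = u0 K ∧ ∀ w, H (jj w) = jj (h w) := by
  unfold E at hh
  induction hh using Subgroup.closure_induction with
  | mem x hx =>
    obtain ⟨u, w, hu, hw, rfl⟩ := hx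
    have hu' : (oddForm 4 K) (jj u) = 0 := by rw [Q_jj, hu]
    have hw' : QuadraticMap.polar (oddForm 4 K) (jj u) (jj w) = 0 := by rw [polar_jj, hw]
    refine ⟨siegel (oddForm 4 K) (jj u) (jj w) hu' hw', siegel_mem_E _ _, ?_, fun y => ?_⟩
    · rw [siegel_apply, polar_jj_u0, polar_jj_u0]
      simp
    · rw [siegel_apply, siegel_apply, polar_jj, polar_jj, Q_jj]
      simp only [map_add, map_sub, map_smul]
  | one => exact ⟨1, one_mem _, rfl, fun _ => rfl⟩
  | mul x y _ _ hx hy =>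
    obtain ⟨X, hX, h1, h2⟩ := hx
    obtain ⟨Y, hY, h3, h4⟩ := hy
    refine ⟨X * Y, mul_mem hX hY, ?_, fun w => ?_⟩
    · rw [LinearEquiv.mul_apply, h3, h1]
    · rw [LinearEquiv.mul_apply, h4, h2, LinearEquiv.mul_apply]
  | inv x _ hx =>
    obtain ⟨X, hX, h1, h2⟩ := hx
    refine ⟨X⁻¹, inv_mem hX, ?_, fun w => ?_⟩
    · have h3 : X⁻¹ (X (u0 K)) = u0 K := LinearEquiv.symm_apply_apply X _
      rwa [h1] at h3
    · have h3 : X⁻¹ (X (jj (x⁻¹ w))) = jj (x⁻¹ w) := LinearEquiv.symm_apply_apply X _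
      have h4 : x (x⁻¹ w) = w := LinearEquiv.apply_symm_apply x w
      rwa [h2, h4] at h3

theorem conj_sgl {h : W7 K ≃ₗ[K] W7 K} {H : VV K ≃ₗ[K] VV K} (hH : H ∈ E (oddForm 4 K)) (h1 : H (u0 K) = u0 K)
    (h2 : ∀ w, H (jj w) = jj (h w)) (w : W7 K) : H * sgl w * H⁻¹ = sgl (h w) := by
  have hO : H ∈ O (oddForm 4 K) := E_le_O hH
  unfold sgl
  rw [siegel_conj hO Q_u0 (polar_u0_jj w) (by rw [h1]; exact Q_u0) (by rw [h1, h2]; exact polar_u0_jj _)]
  congr 1
  exact h2 w

variable {ρ : ↥(chevF4.group K) →* GL I27 K}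

theorem xc_pow [Finite K] {p : ℕ} [CharP K p] {r : ℕ} (hr : r < chevF4.nroots) (t : K) :
    xc Cfsg.Agent.Nodes.KindF.isType (vec chevF4 4 r) t ^ p = 1 := by
  have key : ∀ n : ℕ, xc Cfsg.Agent.Nodes.KindF.isType (vec chevF4 4 r) t ^ n =
      xc Cfsg.Agent.Nodes.KindF.isType (vec chevF4 4 r) (n * t) := by
    intro n
    apply Subtype.ext
    rw [Subgroup.coe_pow, coe_xc Cfsg.Agent.Nodes.KindF.isType hr, coe_xc Cfsg.Agent.Nodes.KindF.isType hr]
    induction n with
    | zero => rw [pow_zero, Nat.cast_zero, zero_mul, xG_zero]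
    | succ n ih => rw [pow_succ, ih, xG_add, Nat.cast_succ, add_mul, one_mul]
  rw [key, CharP.cast_eq_zero, zero_mul]
  have h0 := key 0
  rw [pow_zero, Nat.cast_zero, zero_mul] at h0
  exact h0.symm

theorem t1_ne_one (h2 : (2 : K) ≠ 0) (hρ : IsJ ρ) : t1 K ≠ 1 := t_ne_one h2 (isT_t1 hρ)

/-- **the embedding `e`** -/
theorem exists_e [Finite K] (h2 : (2 : K) ≠ 0) (hρ : IsJ ρ) (hi : Function.Injective ρ) :
    ∃ e : Multiplicative (W7 K) →* ↥(chevF4.group K), Function.Injective e ∧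
      (∀ h ∈ E (oddForm 3 K), ∃ g, ∀ w, g * e (.ofAdd w) * g⁻¹ = e (.ofAdd (h w))) ∧
      ∀ (w : W7 K) (p : ℕ) [CharP K p] (y : ↥(Subgroup.centralizer ({t1 K} : Set ↥(chevF4.group K)))),
        Ph hρ h2 (isT_t1 hρ) y = sgl w → y ^ p = 1 → (y : ↥(chevF4.group K)) = e (.ofAdd w) := by
  classical
  obtain ⟨p, hpc⟩ := CharP.exists K
  have : Fact p.Prime := ⟨CharP.char_is_prime K p⟩
  have hp2 : p ≠ 2 := by
    rintro rfl
    exact h2 (by exact_mod_cast CharP.cast_eq_zero K 2)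
  set P := Ph hρ h2 (isT_t1 hρ) with hP
  have hmem : t1 K ∈ Subgroup.centralizer ({t1 K} : Set ↥(chevF4.group K)) := by
    rw [Subgroup.mem_centralizer_singleton_iff]
  set τ : ↥(Subgroup.centralizer ({t1 K} : Set ↥(chevF4.group K))) := ⟨t1 K, hmem⟩ with hτ
  obtain ⟨e, he1, he2, he3⟩ := lift_abs P (τ := τ) (Subtype.ext (t_sq hi (isT_t1 hρ)))
    (fun h => t1_ne_one h2 hρ (congrArg Subtype.val h)) (fun x => Subtype.ext (comm_of_mem x.2))
    (fun x hx => (ker_Ph hρ h2 (isT_t1 hρ) hi hx).imp (fun h => Subtype.ext h) (fun h => Subtype.ext h))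
    ((Fact.out : p.Prime).odd_of_ne_two hp2) (sgl (K := K)) sgl_add
    (fun a => by rw [← Nat.cast_smul_eq_nsmul K, CharP.cast_eq_zero, zero_smul])
    (fun a => E_le_range h2 hρ hi (sgl_mem a))
  refine ⟨(Subgroup.subtype _).comp e, ?_, ?_, ?_⟩
  · refine (Subgroup.subtype_injective _).comp ?_
    intro a b hab
    have h1 : P (e (.ofAdd a.toAdd)) = P (e (.ofAdd b.toAdd)) := congrArg P hab
    rw [he1, he1] at h1
    exact congrArg Multiplicative.ofAdd (sgl_inj h1)
  · intro h hh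
    obtain ⟨H, hH, h1, h3⟩ := ext_E hh
    obtain ⟨g, hg⟩ := E_le_range h2 hρ hi hH
    refine ⟨g, fun w => ?_⟩
    have h4 : g * e (.ofAdd w) * g⁻¹ = e (.ofAdd (h w)) := by
      apply he3
      · rw [map_mul, map_mul, map_inv, he1, ← conj_sgl hH h1 h3]
        rw [← hP] at hg
        rw [hg]
      · rw [conj_pow, he2, mul_one, mul_inv_cancel]
    exact congrArg Subtype.val h4
  · intro w q _ y h1 h3
    have hq : q = p := CharP.eq K ‹_› hpc
    subst hq
    exact congrArg Subtype.val (he3 w y h1 h3)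

end

end Cfsg.Agent.H31.FR
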