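import Cfsg.Agent.H31.FR.Lift

/-!
# `F4(q)`, `q` odd: seven root elements as Siegel elements (helper31)

`Ph_rr` : the image of `x_r(t)`, `r = rr k`, in `O₉(q)` is the Siegel element of `± t e_k`;
`exists_er` : the embedding `e` of `FR.Lift` with `e (t e_k) = x_{rr k}(± t)`.
-/

set_option autoImplicit false
set_option linter.unusedSectionVars false
set_option linter.unusedSimpArgs false

namespace Cfsg.Agent.H31.FR

open Cfsg Cfsg.Lie Module Matrix
open Cfsg.Agent.ChevalleyStructure Cfsg.Agent.ChevalleyStructure.Elts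
open Cfsg.Agent.ChevalleyStructure.E6Min.Tables Cfsg.Agent.ChevalleyStructure.E6Min.Basic
open Cfsg.Agent.H952.F4 Cfsg.Agent.H952.F4.Jord
open Cfsg.Agent.LieClassical Cfsg.Agent.LieClassical.OrthForms Cfsg.Agent.LieClassical.OrthCore
open Cfsg.Agent.H557.InvF4 Cfsg.Agent.OddHalf.NI.ModelChev
open Cfsg.Agent.Tits.Roots Cfsg.Agent.Nodes.BNOf Cfsg.Agent.Nodes.RGDChev Cfsg.Agent.KFacts.RgdChevCoord
open Cfsg.Agent.H885.Pw.JB

universe u

/-- the root indices -/
def rr : Unit ⊕ (Fin 3 ⊕ Fin 3) → ℕ := Sum.elim (fun _ => 20) (Sum.elim ![2, 16, 17] ![43, 26, 25])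

/-- the signs -/
def ssZ : Unit ⊕ (Fin 3 ⊕ Fin 3) → ℤ := Sum.elim (fun _ => 1) (Sum.elim ![1, -1, 1] ![1, 1, -1])

theorem rr_lt : ∀ k, rr k < 48 := by decide

section

variable {K : Type u} [Field K]

/-- the signs in the field -/
def ss (K : Type u) [Field K] (k : Unit ⊕ (Fin 3 ⊕ Fin 3)) : K := (ssZ k : K)

theorem ssZ_sq : ∀ k, ssZ k * ssZ k = 1 := by decide

theorem ss_sq (k : Unit ⊕ (Fin 3 ⊕ Fin 3)) : ss K k * ss K k = 1 := by
  unfold ss
  rw [← Int.cast_mul, ssZ_sq, Int.cast_one]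

/-- `zM e c` commutes with the involution -/
def Pl (e : ℕ) : Prop := ∀ i : I27, Cfsg.Agent.ChevalleyStructure.E6Min.Basic.sg e i = 0 ∨ pl (sr e i) = pl i

instance (e : ℕ) : Decidable (Pl e) := by unfold Pl; infer_instance

theorem zM_sgn {e : ℕ} (h : Pl e) (c : K) (x : I27 → K) :
    (zM e c *ᵥ (fun i => if pl i = true then x i else -x i)) =
      fun i => if pl i = true then (zM e c *ᵥ x) i else -(zM e c *ᵥ x) i := by
  funext i
  rw [zM_mulVec, zM_mulVec]
  rcases h i with h | h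
  · rw [h]
    simp
  · rw [h]
    split_ifs <;> ring

theorem zM_inJ {e : ℕ} (h : Pl e) (c : K) {x : I27 → K} (hx : InJ x) : InJ (zM e c *ᵥ x) := by
  intro i hi
  rw [zM_mulVec, hx i hi]
  rcases h i with h | h
  · rw [h]
    simp
  · rw [hx _ (h.trans hi)]
    simp

variable {ρ : ↥(chevF4.group K) →* GL I27 K}

theorem JK_xc (hρ : IsJ ρ) {r : ℕ} (hr : r < 48) (t : K) (x : I27 → K) :
    JK ρ (xc Cfsg.Agent.Nodes.KindF.isType (vec chevF4 4 r) t) x = yM r t *ᵥ x := by
  have h1 : (((xc Cfsg.Agent.Nodes.KindF.isType (vec chevF4 4 r) t : ↥(chevF4.group K)) : GL chevF4.Idx K) :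
      Matrix chevF4.Idx chevF4.Idx K) = chevF4.xMat K ⟨r, hr⟩ t := by
    rw [coe_xc Cfsg.Agent.Nodes.KindF.isType hr, coe_xG, x_of_lt hr]
  rw [Inv.JK_apply, hρ ⟨r, hr⟩ t _ h1]

theorem mem_of_sgn {t : ↥(chevF4.group K)} (hi : Function.Injective ρ) (ht : IsT ρ t) {g : ↥(chevF4.group K)}
    (h : ∀ x : I27 → K, JK ρ g (fun i => if pl i = true then x i else -x i) =
      fun i => if pl i = true then JK ρ g x i else -JK ρ g x i) :
    g ∈ Subgroup.centralizer ({t} : Set ↥(chevF4.group K)) := by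
  rw [Subgroup.mem_centralizer_singleton_iff]
  have e1 : ∀ y, JK ρ t y = fun i => if pl i = true then y i else -y i := fun y => funext (ht y)
  apply JK_inj hi
  intro x
  rw [map_mul, map_mul, Module.End.mul_apply, Module.End.mul_apply, e1, e1, h]

theorem yM_long {r e : ℕ} {s : ℤ} (hd : dat.getD r [] = [(e, s)]) (t : K) : yM r t = zM e ((s : K) * t) := by
  rw [yM, hd]; simp

theorem mem_long (hρ : IsJ ρ) (hi : Function.Injective ρ) {r e : ℕ} {s : ℤ} (hr : r < 48)
    (hd : dat.getD r [] = [(e, s)]) (hp : Pl e) (t : K) :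
    xc Cfsg.Agent.Nodes.KindF.isType (vec chevF4 4 r) t ∈ Subgroup.centralizer ({t1 K} : Set ↥(chevF4.group K)) := by
  apply mem_of_sgn hi (isT_t1 hρ)
  intro x
  rw [JK_xc hρ hr, JK_xc hρ hr, yM_long hd, zM_sgn hp]

/-- the shape of a long root element on the fixed vectors of the involution -/
theorem key_long (hρ : IsJ ρ) {r e : ℕ} {s α β : ℤ} {a b a' b' : I27} (hr : r < 48)
    (hd : dat.getD r [] = [(e, s)])
    (tab : ∀ i : I27, pl i = true → Cfsg.Agent.ChevalleyStructure.E6Min.Basic.sg e i =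
      if i = a then α else if i = b then β else 0) (ha : sr e a = a') (hb : sr e b = b') (t : K) (x : I27 → K) (i : I27)
    (hi : pl i = true) : JK ρ (xc Cfsg.Agent.Nodes.KindF.isType (vec chevF4 4 r) t) x i =
      x i + (s * t) * (if i = a then α * x a' else if i = b then β * x b' else 0) := by
  rw [JK_xc hρ hr, yM_long hd, zM_mulVec, tab i hi]
  by_cases h1 : i = a
  · subst h1
    rw [if_pos rfl, if_pos rfl, ha]
  · rw [if_neg h1, if_neg h1]
    by_cases h3 : i = b
    · subst h3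
      rw [if_pos rfl, if_pos rfl, hb]
    · rw [if_neg h3, if_neg h3]
      simp

theorem sgl_apply (w : W7 K) (y : VV K) : sgl w y = y + y (.inr (.inl 0)) • jj w -
    QuadraticMap.polar (oddForm 4 K) (jj w) y • u0 K - ((oddForm 3 K) w * y (.inr (.inl 0))) • u0 K := by
  rw [sgl, siegel_apply, polar_u0, Q_jj]

/-- comparison on the fixed vectors -/
theorem Ph_eq (hρ : IsJ ρ) (h2 : (2 : K) ≠ 0) {g : ↥(chevF4.group K)}
    (hg : g ∈ Subgroup.centralizer ({t1 K} : Set ↥(chevF4.group K))) {w : W7 K}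
    (h : ∀ (y : VV K) (i : I27), pl i = true → JK ρ g (io y) i = io (sgl w y) i) :
    Ph hρ h2 (isT_t1 hρ) ⟨g, hg⟩ = sgl w := by
  apply LinearEquiv.ext
  intro y
  apply io_inj
  rw [io_Ph]
  funext i
  by_cases hp : pl i = true
  · exact h y i hp
  · have hp' : pl i = false := by simpa using hp
    rw [inJ_io _ i hp']
    exact (isT_t1 hρ).inJ h2 (comm_of_mem hg) (inJ_io y) i hp'

theorem b1 (hρ : IsJ ρ) (t : K) (y : VV K) (i : I27) (hp : pl i = true) :
    JK ρ (xc Cfsg.Agent.Nodes.KindF.isType (vec chevF4 4 2) t) (io y) i =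
      io (sgl (Pi.single (.inr (.inl 0)) (1 * t)) y) i := by
  rw [key_long hρ (e := 53) (s := -1) (α := 1) (β := -1) (a := (0, 1, 0)) (b := (1, 2, 0)) (a' := (2, 0, 2))
    (b' := (0, 0, 1)) (by decide) (by decide) (by decide +kernel) (by decide +kernel) (by decide +kernel) t _ i hp,
    sgl_apply, jj_single, polar_oddForm, coe_oddForm, quadFormOdd_apply]
  obtain ⟨k, i, j⟩ := i
  revert hp
  fin_cases k <;> fin_cases i <;> fin_cases j <;> intro hp <;>
    first
      | (exact absurd hp (by decide))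
      | (simp [io, ofM, sh7, u0, Fin.sum_univ_four, Fin.sum_univ_three, Pi.single_apply]; done)
      | (simp [io, ofM, sh7, u0, Fin.sum_univ_four, Fin.sum_univ_three, Pi.single_apply]; ring)

theorem b2 (hρ : IsJ ρ) (t : K) (y : VV K) (i : I27) (hp : pl i = true) :
    JK ρ (xc Cfsg.Agent.Nodes.KindF.isType (vec chevF4 4 16) t) (io y) i =
      io (sgl (Pi.single (.inr (.inl 1)) ((-1) * t)) y) i := by
  rw [key_long hρ (e := 8) (s := -1) (α := -1) (β := 1) (a := (0, 1, 0)) (b := (1, 2, 1)) (a' := (2, 1, 2))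
    (b' := (0, 0, 1)) (by decide) (by decide) (by decide +kernel) (by decide +kernel) (by decide +kernel) t _ i hp,
    sgl_apply, jj_single, polar_oddForm, coe_oddForm, quadFormOdd_apply]
  obtain ⟨k, i, j⟩ := i
  revert hp
  fin_cases k <;> fin_cases i <;> fin_cases j <;> intro hp <;>
    first
      | (exact absurd hp (by decide))
      | (simp [io, ofM, sh7, u0, Fin.sum_univ_four, Fin.sum_univ_three, Pi.single_apply]; done)
      | (simp [io, ofM, sh7, u0, Fin.sum_univ_four, Fin.sum_univ_three, Pi.single_apply]; ring)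

theorem b3 (hρ : IsJ ρ) (t : K) (y : VV K) (i : I27) (hp : pl i = true) :
    JK ρ (xc Cfsg.Agent.Nodes.KindF.isType (vec chevF4 4 17) t) (io y) i =
      io (sgl (Pi.single (.inr (.inl 2)) (1 * t)) y) i := by
  rw [key_long hρ (e := 11) (s := -1) (α := 1) (β := -1) (a := (0, 1, 0)) (b := (1, 2, 2)) (a' := (2, 2, 2))
    (b' := (0, 0, 1)) (by decide) (by decide) (by decide +kernel) (by decide +kernel) (by decide +kernel) t _ i hp,
    sgl_apply, jj_single, polar_oddForm, coe_oddForm, quadFormOdd_apply]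
  obtain ⟨k, i, j⟩ := i
  revert hp
  fin_cases k <;> fin_cases i <;> fin_cases j <;> intro hp <;>
    first
      | (exact absurd hp (by decide))
      | (simp [io, ofM, sh7, u0, Fin.sum_univ_four, Fin.sum_univ_three, Pi.single_apply]; done)
      | (simp [io, ofM, sh7, u0, Fin.sum_univ_four, Fin.sum_univ_three, Pi.single_apply]; ring)

theorem b4 (hρ : IsJ ρ) (t : K) (y : VV K) (i : I27) (hp : pl i = true) :
    JK ρ (xc Cfsg.Agent.Nodes.KindF.isType (vec chevF4 4 43) t) (io y) i =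
      io (sgl (Pi.single (.inr (.inr 0)) (1 * t)) y) i := by
  rw [key_long hρ (e := 6) (s := -1) (α := 1) (β := -1) (a := (0, 1, 0)) (b := (2, 0, 2)) (a' := (1, 2, 0))
    (b' := (0, 0, 1)) (by decide) (by decide) (by decide +kernel) (by decide +kernel) (by decide +kernel) t _ i hp,
    sgl_apply, jj_single, polar_oddForm, coe_oddForm, quadFormOdd_apply]
  obtain ⟨k, i, j⟩ := i
  revert hp
  fin_cases k <;> fin_cases i <;> fin_cases j <;> intro hp <;>
    first
      | (exact absurd hp (by decide))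
      | (simp [io, ofM, sh7, u0, Fin.sum_univ_four, Fin.sum_univ_three, Pi.single_apply]; done)
      | (simp [io, ofM, sh7, u0, Fin.sum_univ_four, Fin.sum_univ_three, Pi.single_apply]; ring)

theorem b5 (hρ : IsJ ρ) (t : K) (y : VV K) (i : I27) (hp : pl i = true) :
    JK ρ (xc Cfsg.Agent.Nodes.KindF.isType (vec chevF4 4 26) t) (io y) i =
      io (sgl (Pi.single (.inr (.inr 1)) (1 * t)) y) i := by
  rw [key_long hρ (e := 51) (s := 1) (α := -1) (β := 1) (a := (0, 1, 0)) (b := (2, 1, 2)) (a' := (1, 2, 1))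
    (b' := (0, 0, 1)) (by decide) (by decide) (by decide +kernel) (by decide +kernel) (by decide +kernel) t _ i hp,
    sgl_apply, jj_single, polar_oddForm, coe_oddForm, quadFormOdd_apply]
  obtain ⟨k, i, j⟩ := i
  revert hp
  fin_cases k <;> fin_cases i <;> fin_cases j <;> intro hp <;>
    first
      | (exact absurd hp (by decide))
      | (simp [io, ofM, sh7, u0, Fin.sum_univ_four, Fin.sum_univ_three, Pi.single_apply]; done)
      | (simp [io, ofM, sh7, u0, Fin.sum_univ_four, Fin.sum_univ_three, Pi.single_apply]; ring)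

theorem b6 (hρ : IsJ ρ) (t : K) (y : VV K) (i : I27) (hp : pl i = true) :
    JK ρ (xc Cfsg.Agent.Nodes.KindF.isType (vec chevF4 4 25) t) (io y) i =
      io (sgl (Pi.single (.inr (.inr 2)) ((-1) * t)) y) i := by
  rw [key_long hρ (e := 44) (s := 1) (α := 1) (β := -1) (a := (0, 1, 0)) (b := (2, 2, 2)) (a' := (1, 2, 2))
    (b' := (0, 0, 1)) (by decide) (by decide) (by decide +kernel) (by decide +kernel) (by decide +kernel) t _ i hp,
    sgl_apply, jj_single, polar_oddForm, coe_oddForm, quadFormOdd_apply]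
  obtain ⟨k, i, j⟩ := i
  revert hp
  fin_cases k <;> fin_cases i <;> fin_cases j <;> intro hp <;>
    first
      | (exact absurd hp (by decide))
      | (simp [io, ofM, sh7, u0, Fin.sum_univ_four, Fin.sum_univ_three, Pi.single_apply]; done)
      | (simp [io, ofM, sh7, u0, Fin.sum_univ_four, Fin.sum_univ_three, Pi.single_apply]; ring)

theorem zt {e : ℕ} {α β : ℤ} {a b a' b' : I27}
    (tab : ∀ i : I27, pl i = true → Cfsg.Agent.ChevalleyStructure.E6Min.Basic.sg e i =
      if i = a then α else if i = b then β else 0) (ha : sr e a = a') (hb : sr e b = b') (c : K) (x : I27 → K) (i : I27)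
    (hi : pl i = true) : (zM e c *ᵥ x) i = x i + c * (if i = a then α * x a' else if i = b then β * x b' else 0) := by
  rw [zM_mulVec, tab i hi]
  by_cases h1 : i = a
  · subst h1
    rw [if_pos rfl, if_pos rfl, ha]
  · rw [if_neg h1, if_neg h1]
    by_cases h3 : i = b
    · subst h3
      rw [if_pos rfl, if_pos rfl, hb]
    · rw [if_neg h3, if_neg h3]
      simp

theorem yM_short (t : K) : yM 20 t = zM 15 (-t) * zM 35 t := by
  rw [yM, show dat.getD 20 [] = [(15, (-1 : ℤ)), (35, 1)] from rfl]; simp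

theorem mem_short (hρ : IsJ ρ) (hi : Function.Injective ρ) (t : K) :
    xc Cfsg.Agent.Nodes.KindF.isType (vec chevF4 4 20) t ∈ Subgroup.centralizer ({t1 K} : Set ↥(chevF4.group K)) := by
  apply mem_of_sgn hi (isT_t1 hρ)
  intro x
  rw [JK_xc hρ (by decide), JK_xc hρ (by decide), yM_short, ← Matrix.mulVec_mulVec, ← Matrix.mulVec_mulVec,
    zM_sgn (e := 35) (by decide +kernel), zM_sgn (e := 15) (by decide +kernel)]

theorem b0 (hρ : IsJ ρ) (t : K) (y : VV K) (i : I27) (hp : pl i = true) :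
    JK ρ (xc Cfsg.Agent.Nodes.KindF.isType (vec chevF4 4 20) t) (io y) i =
      io (sgl (Pi.single (.inl ()) (1 * t)) y) i := by
  have h15 : ∀ (c : K) (x : I27 → K) (i : I27), pl i = true → (zM 15 c *ᵥ x) i = x i + c *
      (if i = (0, 1, 0) then (1 : ℤ) * x (0, 0, 0) else if i = (0, 1, 1) then (1 : ℤ) * x (0, 0, 1) else 0) := by
    intro c x i hi
    exact zt (by decide +kernel) (by decide +kernel) (by decide +kernel) c x i hi
  have h35 : ∀ (c : K) (x : I27 → K) (i : I27), pl i = true → (zM 35 c *ᵥ x) i = x i + c *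
      (if i = (0, 0, 0) then (1 : ℤ) * x (0, 0, 1) else if i = (0, 1, 0) then (1 : ℤ) * x (0, 1, 1) else 0) := by
    intro c x i hi
    exact zt (by decide +kernel) (by decide +kernel) (by decide +kernel) c x i hi
  rw [JK_xc hρ (by decide), yM_short, ← Matrix.mulVec_mulVec, h15 _ _ _ hp, h35 _ _ _ hp, h35 _ _ (0, 0, 0) (by decide),
    h35 _ _ (0, 0, 1) (by decide), sgl_apply, jj_single, polar_oddForm, coe_oddForm, quadFormOdd_apply]
  obtain ⟨k, i, j⟩ := i
  revert hp
  fin_cases k <;> fin_cases i <;> fin_cases j <;> intro hp <;>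
    first
      | (exact absurd hp (by decide))
      | (simp [io, ofM, sh7, u0, Fin.sum_univ_four, Fin.sum_univ_three, Pi.single_apply]; done)
      | (simp [io, ofM, sh7, u0, Fin.sum_univ_four, Fin.sum_univ_three, Pi.single_apply]; ring)

/-- **R2b** -/
theorem Ph_rr (hρ : IsJ ρ) (h2 : (2 : K) ≠ 0) (hi : Function.Injective ρ) (k : Unit ⊕ (Fin 3 ⊕ Fin 3)) (t : K) :
    ∃ hm : xc Cfsg.Agent.Nodes.KindF.isType (vec chevF4 4 (rr k)) t ∈
        Subgroup.centralizer ({t1 K} : Set ↥(chevF4.group K)),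
      Ph hρ h2 (isT_t1 hρ) ⟨_, hm⟩ = sgl (Pi.single k (ss K k * t)) := by
  rcases k with _ | k | k
  · refine ⟨mem_short hρ hi t, Ph_eq hρ h2 _ fun y i hp => ?_⟩
    have := b0 hρ t y i hp
    simpa [ss, ssZ, rr] using this
  · fin_cases k
    · refine ⟨mem_long hρ hi (e := 53) (s := -1) (by decide) (by decide) (by decide +kernel) t,
        Ph_eq hρ h2 _ fun y i hp => ?_⟩
      have := b1 hρ t y i hp
      simpa [ss, ssZ, rr] using this
    · refine ⟨mem_long hρ hi (e := 8) (s := -1) (by decide) (by decide) (by decide +kernel) t,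
        Ph_eq hρ h2 _ fun y i hp => ?_⟩
      have := b2 hρ t y i hp
      simpa [ss, ssZ, rr] using this
    · refine ⟨mem_long hρ hi (e := 11) (s := -1) (by decide) (by decide) (by decide +kernel) t,
        Ph_eq hρ h2 _ fun y i hp => ?_⟩
      have := b3 hρ t y i hp
      simpa [ss, ssZ, rr] using this
  · fin_cases k
    · refine ⟨mem_long hρ hi (e := 6) (s := -1) (by decide) (by decide) (by decide +kernel) t,
        Ph_eq hρ h2 _ fun y i hp => ?_⟩
      have := b4 hρ t y i hp
      simpa [ss, ssZ, rr] using this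
    · refine ⟨mem_long hρ hi (e := 51) (s := 1) (by decide) (by decide) (by decide +kernel) t,
        Ph_eq hρ h2 _ fun y i hp => ?_⟩
      have := b5 hρ t y i hp
      simpa [ss, ssZ, rr] using this
    · refine ⟨mem_long hρ hi (e := 44) (s := 1) (by decide) (by decide) (by decide +kernel) t,
        Ph_eq hρ h2 _ fun y i hp => ?_⟩
      have := b6 hρ t y i hp
      simpa [ss, ssZ, rr] using this

/-- **R2**: the embedding `e : q^7 → F4(q)`, equivariant for `Ω₇(q)`, with its root elements -/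
theorem exists_er [Finite K] (h2 : (2 : K) ≠ 0) :
    ∃ e : Multiplicative (Unit ⊕ (Fin 3 ⊕ Fin 3) → K) →* ↥(chevF4.group K), Function.Injective e ∧
      (∀ h ∈ Cfsg.Agent.LieClassical.OrthCore.E (oddForm 3 K), ∃ g, ∀ w, g * e (.ofAdd w) * g⁻¹ = e (.ofAdd (h w))) ∧
      ∀ k t, e (.ofAdd (Pi.single k t)) =
        xc Cfsg.Agent.Nodes.KindF.isType (vec chevF4 4 (rr k)) (ss K k * t) := by
  obtain ⟨ρ, hρ, hi⟩ := exists_J K
  obtain ⟨e, he1, he2, he3⟩ := exists_e h2 hρ hi
  obtain ⟨p, hpc⟩ := CharP.exists K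
  refine ⟨e, he1, he2, fun k t => ?_⟩
  obtain ⟨hm, h⟩ := Ph_rr hρ h2 hi k (ss K k * t)
  rw [← mul_assoc, ss_sq, one_mul] at h
  symm
  exact he3 _ p ⟨_, hm⟩ h (Subtype.ext (xc_pow (p := p) (show rr k < chevF4.nroots from rr_lt k) _))

end

end Cfsg.Agent.H31.FR
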